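import Cfsg.Agent.Lib.TwoL.Odd

/-!
# Involutions with centralizer of type `2 × L₂(q)`
-/

set_option autoImplicit false

namespace Cfsg.Lib.TwoL
open Subgroup Cfsg.Lib Cfsg.Lib.FT Cfsg.Lib.GW Cfsg.Lib.Wal Cfsg.Lib.Quad
open scoped MatrixGroups

universe u

section PSL
variable {F : Type*} [Field F]

theorem dih2_psl [Finite F] (h2 : (2 : F) ≠ 0) : Dih2 PSL(2, F) := fun P hP => by
  haveI := Fintype.ofFinite F
  by_cases h0 : P = ⊥
  · exact ⟨1, one_mem _, fun x hx _ => by simp [mem_bot.1 (h0 ▸ hx)], fun x hx y hy _ _ => by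
      simp [mem_bot.1 (h0 ▸ hx), mem_bot.1 (h0 ▸ hy)]⟩
  have pk : L2.PK (QuotientGroup.mk' (center SL(2, F))) := fun A => by
    rw [QuotientGroup.mk'_apply, QuotientGroup.eq_one_iff, pg_center_sl2 h2]
  obtain ⟨z, hz, z2⟩ := exists_invol (hP.to_le inf_le_left) (pg_inf_centralizer_ne_bot hP hP le_normalizer h0)
  obtain ⟨Z, rfl⟩ := QuotientGroup.mk'_surjective _ z
  have tr : ∀ A : SL(2, F), Matrix.trace (A : Matrix (Fin 2) (Fin 2) F) = 0 →
      QuotientGroup.mk' (center SL(2, F)) A * QuotientGroup.mk' _ A = 1 := fun A e => by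
    rw [← map_mul, pk]
    exact .inr (Subtype.ext (by simp [L2.mul_self_of_trace e]))
  have Z0 : Matrix.trace (Z : Matrix (Fin 2) (Fin 2) F) = 0 := by
    rcases (pk _).1 ((map_mul _ Z Z).trans (sq2 z2)) with e | e
    · exact L2.trace_of_sq (c := 1) (by simpa using congrArg Subtype.val e) fun c e =>
        ne1 z2 ((pk _).2 (L2.sl_scalar e))
    · exact L2.trace_of_sq (c := -1) (by simpa using congrArg Subtype.val e) fun c e =>
        ne1 z2 ((pk _).2 (L2.sl_scalar e))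
  haveI := L2.isCyclic_tor h2 Z0 (L2.det_sl Z)
  haveI : IsCyclic ((L2.tor (Z : Matrix (Fin 2) (Fin 2) F)).map (QuotientGroup.mk' (center SL(2, F)))) :=
    isCyclic_of_surjective _ (MonoidHom.subgroupMap_surjective _ _)
  obtain ⟨c, hc⟩ := (Subgroup.isCyclic_iff_exists_zpowers_eq_top _).1 (isCyclic_of_le
    (inf_le_right : P ⊓ (L2.tor (Z : Matrix (Fin 2) (Fin 2) F)).map (QuotientGroup.mk' (center SL(2, F))) ≤ _))
  have an : ∀ A : SL(2, F), QuotientGroup.mk' (center SL(2, F)) A ∈ P →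
      QuotientGroup.mk' (center SL(2, F)) A ∉ zpowers c → A * Z = -(Z * A) := fun A hA n =>
    (pk.eq_iff.1 (by rw [map_mul, map_mul]; exact mem_centralizer_iff.1 hz.2 _ hA)).resolve_left fun e =>
      n (hc ▸ ⟨hA, mem_map_of_mem _ (L2.mem_tor.2 (congrArg Subtype.val e))⟩)
  refine ⟨c, (hc ▸ mem_zpowers c).1, fun x hx n => ?_, fun x hx y hy n n' => hc ▸ ⟨mul_mem hx hy, ?_⟩⟩
  · obtain ⟨A, rfl⟩ := QuotientGroup.mk'_surjective _ x
    exact tr A (L2.trace_of_anti h2 (L2.det_sl Z) (by simpa using congrArg Subtype.val (an A hx n)))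
  · obtain ⟨A, rfl⟩ := QuotientGroup.mk'_surjective _ x
    obtain ⟨B, rfl⟩ := QuotientGroup.mk'_surjective _ y
    refine ⟨A * B, L2.mem_tor.2 (congrArg Subtype.val (show A * B * Z = Z * (A * B) from ?_)), map_mul _ _ _⟩
    rw [mul_assoc, an B hy n', mul_neg, ← mul_assoc, an A hx n, neg_mul, neg_neg, mul_assoc]

theorem mk_inj (h2 : (2 : F) = 0) {A B : SL(2, F)} (e : (A : PSL(2, F)) = B) : A = B := by
  obtain ⟨r, hr, e'⟩ := Matrix.SpecialLinearGroup.mem_center_iff.1 (QuotientGroup.eq.1 e)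
  have h1 : r = 1 := by
    have : (r - 1) ^ 2 = 0 := by
      rw [Fintype.card_fin] at hr
      linear_combination hr + (1 - r) * h2
    exact sub_eq_zero.1 (pow_eq_zero_iff two_ne_zero |>.1 this)
  rw [h1, map_one] at e'
  exact inv_mul_eq_one.1 (Subtype.ext e'.symm)

theorem borel (h2 : (2 : F) = 0) {A : SL(2, F)} {b : F} (e : A * upT 1 = upT b * A) :
    ∃ c, c ≠ 0 ∧ (∀ a, A * upT a = upT (c * a) * A) ∧ (c = 1 → ∃ b, A = upT b) := by
  have d := A.det_coe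
  have e1 := congrFun (congrFun (congrArg Subtype.val e) 1) 1
  rw [Matrix.det_fin_two] at d
  simp [coe_upT, Matrix.mul_apply, Fin.sum_univ_two] at e1
  rw [e1, mul_zero, sub_zero] at d
  refine ⟨A 0 0 * A 0 0, mul_self_ne_zero.2 (left_ne_zero_of_mul_eq_one d), fun a => ?_, fun c => ⟨A 0 1, ?_⟩⟩
  · ext i j
    fin_cases i <;> fin_cases j <;> simp [coe_upT, Matrix.mul_apply, Fin.sum_univ_two, e1]
    linear_combination (-(A 0 0 * a)) * d
  · have : A 0 0 = 1 := by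
      have : (A 0 0 - 1) ^ 2 = 0 := by linear_combination c + (1 - A 0 0) * h2
      exact sub_eq_zero.1 (pow_eq_zero_iff two_ne_zero |>.1 this)
    ext i j
    fin_cases i <;> fin_cases j <;> simp [coe_upT, e1, this]
    simpa [this] using d

theorem exists_diag [Finite F] (h2 : (2 : F) = 0) {c : F} (hc : c ≠ 0) :
    ∃ A : SL(2, F), ∀ a, A * upT a = upT (c * a) * A := by
  have inj : Function.Injective fun y : F => y * y := fun x y e => by
    have : (x - y) ^ 2 = 0 := by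
      simp only at e
      linear_combination e + (y * y - x * y) * h2
    exact sub_eq_zero.1 (pow_eq_zero_iff two_ne_zero |>.1 this)
  obtain ⟨s, rfl⟩ := Finite.injective_iff_surjective.1 inj c
  have s0 : s ≠ 0 := mul_self_ne_zero.1 hc
  refine ⟨⟨!![s, 0; 0, s⁻¹], by simp [Matrix.det_fin_two, s0]⟩, fun a => Subtype.ext ?_⟩
  change !![s, 0; 0, s⁻¹] * (upT a).1 = (upT (s * s * a)).1 * !![s, 0; 0, s⁻¹]
  simp only [coe_upT]
  ext i j
  fin_cases i <;> fin_cases j <;> simp [Matrix.mul_apply, Fin.sum_univ_two]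
  field_simp

end PSL

section Abs
variable {K Y : Type*} [Group K] [Group Y] [Finite K]

theorem dih2_of_ker (ψ : K →* Y) (hk : ∀ x, ψ x = 1 → Odd (orderOf x)) (hd : Dih2 Y) : Dih2 K := fun P hP => by
  obtain ⟨c, -, h1, h2⟩ := hd.of_injective (ψ.comp P.subtype) ((injective_iff_map_eq_one _).2 fun x e =>
    Subtype.ext ((p2_of_mem hP x.2).eq_one (hk _ e))) ⊤ (hP.to_subgroup _)
  have m : ∀ x : P, (x : K) ∈ zpowers (c : K) ↔ x ∈ zpowers c := fun x => by
    rw [← mem_map_iff_mem P.subtype_injective, MonoidHom.map_zpowers]; rfl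
  exact ⟨c, c.2, fun x hx n => congrArg Subtype.val (h1 ⟨x, hx⟩ trivial fun e => n ((m _).2 e)),
    fun x hx y hy n n' => (m (⟨x, hx⟩ * ⟨y, hy⟩)).2 (h2 _ trivial _ trivial (fun e => n ((m _).2 e))
      fun e => n' ((m _).2 e))⟩

theorem exists_four_of_res (hd : Dih2 K) (h : pResidual 2 K = ⊤) (h2 : 2 ∣ Nat.card K) : ∃ a b : K, Four a b := by
  obtain ⟨S⟩ : Nonempty (Sylow 2 K) := inferInstance
  obtain ⟨c, hc⟩ := hd.exists_gen S.isPGroup'
  have hne : ∀ c ∈ (S : Subgroup K), ¬ (S : Subgroup K) ≤ zpowers c := fun c hc e =>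
    (hasNormalPComplement_two_of_isCyclic S (isCyclic_of_le e)).pResidual_ne_top h2 h
  obtain ⟨y, hy, hy'⟩ := SetLike.not_le_iff_exists.1 (hne c hc.mem)
  obtain ⟨z, hz, hz2⟩ := exists_invol (S.isPGroup'.to_le hc.le) fun e => hne y hy fun x hx => by
    by_cases hx'' : x ∈ zpowers c
    · exact mem_bot.1 (e ▸ hx'') ▸ one_mem _
    · exact eq_inv_of_mul_eq_one_left (mem_bot.1 (e ▸ hc.mul x hx y hy hx'' hy')) ▸ inv_mem (mem_zpowers y)
  exact ⟨z, y, hz2, hc.orderOf_eq hy hy', fun e => hy' (e ▸ hz), by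
    have := hc.inv hy hy' hz
    rwa [inv_of_sq (sq2 hz2), mul_inv_eq_iff_eq_mul] at this⟩

end Abs

variable {G : Type u} [Group G] [Finite G]

structure LS (t : G) (L : Subgroup G) {Y : Type*} [Group Y] (ψ : L →* Y) : Prop where
  tt : t * t = 1
  tL : t ∉ L
  le : L ≤ C1[t]
  two : ∀ x ∈ C1[t], P2 x → x ∈ L ∨ t * x ∈ L
  surj : Function.Surjective ψ
  ker : ∀ x, ψ x = 1 → Odd (orderOf x)
  nrm : ∀ g ∈ C1[t], ∀ x ∈ L, g * x * g⁻¹ ∈ L ∨ t * (g * x * g⁻¹) ∈ L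

omit [Finite G] in
theorem four_sub {L : Subgroup G} {a b : G} (ha : a ∈ L) (hb : b ∈ L) (hf : Four a b) :
    Four (⟨a, ha⟩ : L) ⟨b, hb⟩ :=
  ⟨ord_sub hf.ht ha, ord_sub hf.hv hb, fun e => hf.ne (congrArg Subtype.val e), Subtype.ext hf.comm⟩

theorem LS.odd {t : G} {L : Subgroup G} {Y : Type*} [Group Y] [Finite Y] {ψ : L →* Y} (h : LS t L ψ) (hd : Dih2 Y)
    (hp : commutator Y = ⊤) (h2 : 2 ∣ Nat.card Y) : OddS t L := by
  have d := dih2_of_ker ψ h.ker hd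
  have r : pResidual 2 L = ⊤ := by
    rw [← comap_map_eq_self (f := ψ) (H := pResidual 2 L) fun x hx =>
      mem_pResidual_of_coprime (Nat.coprime_two_right.2 (h.ker x hx)), map_pResidual_of_surjective ψ h.surj,
      pResidual_eq_top_of_commutator_eq_top hp, comap_top]
  have oc := d.oneClass (pResidual_two_eq_top_iff.1 r)
  refine ⟨h.tt, h.tL, h.le, h.two, fun P hP p => ?_, fun a ha b hb hf x hx p c => ?_, fun a ha b hb a2 b2 => ?_,
    fun a ha b hb hf => ?_, ?_⟩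
  · obtain ⟨c, hc⟩ := d.exists_gen (p.comap_subtype (K := L))
    have m : ∀ x : L, (x : G) ∈ zpowers (c : G) ↔ x ∈ zpowers c := fun x => by
      rw [← mem_map_iff_mem L.subtype_injective, MonoidHom.map_zpowers]; rfl
    exact ⟨c, hc.mem, fun x hx n => congrArg Subtype.val (hc.sq ⟨x, hP hx⟩ hx fun e => n ((m _).2 e)),
      fun x hx y hy n n' => (m (⟨x, hP hx⟩ * ⟨y, hP hy⟩)).2 (hc.mul _ hx _ hy (fun e => n ((m _).2 e))
        fun e => n' ((m _).2 e))⟩
  · rw [centralizer_four] at c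
    have := d.le_four (four_sub ha hb hf) (P := zpowers ⟨x, hx⟩) (P2.pg (p.imp fun _ e => Subtype.ext e))
      (zpowers_le.2 ⟨mem_c1.2 (Subtype.ext (mem_c1.1 c.1)), mem_c1.2 (Subtype.ext (mem_c1.1 c.2))⟩) (mem_zpowers _)
    simpa [hf.mem_four, Subtype.ext_iff] using (four_sub ha hb hf).mem_four.1 this
  · obtain ⟨g, e⟩ := oc.exists_conj (ord_sub a2 ha) (ord_sub b2 hb)
    exact ⟨g, g.2, congrArg Subtype.val e⟩
  · obtain ⟨g, e, e'⟩ := d.exists_rot' oc (four_sub ha hb hf)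
    exact ⟨g, g.2, congrArg Subtype.val e, congrArg Subtype.val e'⟩
  · obtain ⟨a, b, hf⟩ := exists_four_of_res d r (h2.trans (card_dvd_of_surjective ψ h.surj))
    exact ⟨a, a.2, b, b.2, (orderOf_coe a).trans hf.ht, (orderOf_coe b).trans hf.hv,
      fun e => hf.ne (Subtype.ext e), congrArg Subtype.val hf.comm⟩

theorem LS.even [IsSimpleGroup G] (hG : ¬ IsMulCommutative G) {t : G} {L : Subgroup G} {F : Type*} [Field F]
    [Finite F] (h2 : (2 : F) = 0) (hF : 3 ≤ Nat.card F) {ψ : L →* PSL(2, F)} (h : LS t L ψ) (S : Sylow 2 G) :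
    Nat.card (S : Subgroup G) = 8 ∧ ∀ x ∈ (S : Subgroup G), x ^ 2 = 1 := by
  let u : Multiplicative F →* PSL(2, F) := MonoidHom.mk' (fun a => (upT a.toAdd : SL(2, F))) fun a b => by
    rw [toAdd_mul, ← upT_mul]; rfl
  obtain ⟨D, hD⟩ := exists_isSylowIn 2 (pre ψ u.range)
  have DL := hD.le.trans (pre_le _)
  have iD : im ψ D = u.range := by
    have : IsSylowIn 2 (im ψ D) (im ψ (pre ψ u.range)) :=
      isPiHallOf_singleton_iff.1 (((isPiHallOf_singleton_iff.2 hD).subgroupOf (pre_le _)).map ψ)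
    rw [im_pre h.surj] at this
    refine (this.maximal _ (pgroup_of_sq ?_) le_rfl this.le).symm
    rintro _ ⟨a, rfl⟩
    rw [← map_mul, ← ofAdd_toAdd (a * a), toAdd_mul, ← two_mul, h2, zero_mul, ofAdd_zero, map_one]
  have k1 : ∀ x ∈ L, P2 x → bar ψ x = 1 → x = 1 := fun x hx p e =>
    p.eq_one ((orderOf_coe (⟨x, hx⟩ : L)).symm ▸ h.ker _ (bar_of_mem (f := ψ) hx ▸ e))
  have inj : ∀ x ∈ D, ∀ y ∈ D, bar ψ x = bar ψ y → x = y := fun x hx y hy e => mul_inv_eq_one.1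
    (k1 _ (DL (mul_mem hx (inv_mem hy))) (p2_of_mem hD.isPGroup (mul_mem hx (inv_mem hy))) (by
      rw [bar_mul (DL hx) (inv_mem (DL hy)), bar_inv (DL hy), e, mul_inv_cancel]))
  choose ι m1 m2 using fun a : F => (mem_im_of_le (f := ψ) DL).1
    (show u (Multiplicative.ofAdd a) ∈ im ψ D from iD ▸ ⟨_, rfl⟩)
  have m2 : ∀ a, bar ψ (ι a) = (upT a : SL(2, F)) := m2
  have hι : Coord D ι := ⟨fun a b => inj _ (m1 _) _ (mul_mem (m1 a) (m1 b)) (by
      rw [bar_mul (DL (m1 a)) (DL (m1 b)), m2, m2, m2, ← upT_mul]; rfl), fun a b e => by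
      have := congrArg (fun M : SL(2, F) => M 0 1) (mk_inj h2 ((m2 a).symm.trans (e ▸ m2 b)))
      simpa [coe_upT] using this, fun x => ⟨fun hx => by
        obtain ⟨a, e⟩ : bar ψ x ∈ u.range := iD ▸ bar_mem_im hx (DL hx)
        exact ⟨a.toAdd, inj _ (m1 _) _ hx ((m2 _).trans e)⟩, by rintro ⟨a, rfl⟩; exact m1 a⟩⟩
  have ac : ∀ y ∈ L, y ∈ N[D] → ∀ (A : SL(2, F)) c, bar ψ y = A → (∀ a, A * upT a = upT (c * a) * A) →
      ∀ a, y * ι a * y⁻¹ = ι (c * a) := fun y hy hn A c e e' a => inj _ (cj hn (m1 a)) _ (m1 _) (by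
    rw [bar_conj hy (DL (m1 a)), e, m2, m2, ← QuotientGroup.mk_mul, e', QuotientGroup.mk_mul, mul_inv_cancel_right])
  have act : ∀ y ∈ L, y ∈ N[D] → ∃ c, c ≠ 0 ∧ (∀ a, y * ι a * y⁻¹ = ι (c * a)) ∧ (c = 1 → P2 y → y ∈ D) :=
    fun y hy hn => by
      obtain ⟨A, hA⟩ := QuotientGroup.mk_surjective (bar ψ y)
      obtain ⟨b, hb⟩ := (hι.mem _).1 (cj hn (m1 1))
      have := congrArg (bar ψ) hb
      rw [bar_conj hy (DL (m1 1)), ← hA, m2, m2, eq_mul_inv_iff_mul_eq] at this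
      obtain ⟨c, c0, c1, c2⟩ := borel h2 (mk_inj h2 this).symm
      have a := ac y hy hn A c hA.symm c1
      refine ⟨c, c0, a, fun e p => ?_⟩
      obtain ⟨b, rfl⟩ := c2 e
      have cm := a b
      rw [e, one_mul, mul_inv_eq_iff_eq_mul] at cm
      have := k1 _ (mul_mem hy (DL (m1 b))) (p.mul (p2_of_mem hD.isPGroup (m1 b)) cm) (by
        rw [bar_mul hy (DL (m1 b)), ← hA, m2, ← QuotientGroup.mk_mul, upT_mul, ← two_mul, h2, zero_mul, upT_zero]
        rfl)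
      exact eq_inv_of_mul_eq_one_left this ▸ inv_mem (m1 b)
  have tc : t ∈ C[D] := le_c1_iff.1 (DL.trans h.le)
  have sp : ∀ x ∈ C1[t], P2 x → ∃ y ∈ L, P2 y ∧ (y = x ∨ y = t * x) := fun x hx p => (h.two x hx p).elim
    (fun c => ⟨x, c, p, .inl rfl⟩) fun c => ⟨_, c, (p2_of_sq h.tt).mul p (mem_c1.1 hx).symm, .inr rfl⟩
  have cx : Ctx t D := by
    refine ⟨h.tt, fun d hd => ?_, fun e => h.tL (DL e), DL.trans h.le, fun d hd => ?_, fun x h1 h3 p => ?_⟩
    · obtain ⟨a, rfl⟩ := (hι.mem d).1 hd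
      rw [← hι.add, ← two_mul, h2, zero_mul, hι.zero]
    · obtain ⟨a, rfl⟩ := (hι.mem d).1 hd
      obtain ⟨b, hb⟩ : ∃ b : F, b ∉ ({0, a} : Set F) := by
        by_contra! c
        have := Set.ncard_le_ncard (fun x _ => c x : Set.univ ⊆ ({0, a} : Set F))
        have h3 := Set.ncard_insert_le (0 : F) {a}
        rw [Set.ncard_univ] at this
        rw [Set.ncard_singleton] at h3
        omega
      exact ⟨ι b, m1 b, fun e => hb (.inl (hι.inj (e.trans hι.zero.symm))), fun e => hb (.inr (hι.inj e))⟩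
    · obtain ⟨y, hy, p', e⟩ := sp x h1 p
      have yc : y ∈ C[D] := by rcases e with rfl | rfl; exacts [h3, mul_mem tc h3]
      obtain ⟨c, -, c1, c2⟩ := act y hy (c_le_n _ yc)
      have := c2 (by simpa using hι.inj ((c1 1).symm.trans (cc yc (m1 1)))) p'
      rcases e with rfl | rfl
      exacts [.inl this, .inr this]
  have hU : IsSylowIn 2 (D ⊔ zpowers t) C1[t] := by
    by_contra n
    obtain ⟨x, h1, h3, h4, p⟩ := exists_mem_normalizer_not_mem_of_isPGroup (pgroup_of_sq fun _ => cx.sq_U)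
      (sup_le cx.le (zpowers_le.2 (self_mem_c1 t))) n
    obtain ⟨y, hy, p', e⟩ := sp x h1 (p2_of_mem p (mem_zpowers x))
    have yn : y ∈ N[D ⊔ zpowers t] := by
      rcases e with rfl | rfl
      exacts [h3, mul_mem (le_normalizer (self_mem_ext D t)) h3]
    obtain ⟨c, -, c1, c2⟩ := act y hy (mem_n fun d hd => (cx.mem_U.1 (cj yn (mem_sup_left hd))).resolve_right
      fun e => h.tL ((mul_mem_cancel_right (cj (le_normalizer hy) (DL hd))).1 (DL e)))
    obtain ⟨k, hk⟩ := id p'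
    have := Coord.pow c1 (2 ^ k) 1
    rw [hk, one_mul, inv_one, mul_one, mul_one] at this
    haveI hc : CharP F 2 := (CharP.charP_iff_prime_eq_zero Nat.prime_two).2 (by exact_mod_cast h2)
    have := c2 (sub_eq_zero.1 (pow_eq_zero_iff (n := 2 ^ k) (by positivity) |>.1 (by
      rw [sub_pow_char_pow, ← hι.inj this, one_pow, sub_self]))) p'
    refine h4 (cx.mem_U.2 ?_)
    rcases e with rfl | rfl
    exacts [.inl this, .inr this]
  have tor : ∀ c : F, c ≠ 0 → ∃ g ∈ L, g ∈ N[D] ∧ ∀ a, g * ι a * g⁻¹ = ι (c * a) := fun c hc => by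
    obtain ⟨A, hA⟩ := exists_diag h2 hc
    obtain ⟨g, hg⟩ := h.surj A
    obtain ⟨k, hk, e⟩ := hD.exists_mul_mem_normalizer (g := g) (mem_n fun x hx => mem_pre.2
      ⟨cj (le_normalizer g.2) (pre_le _ hx), by
        obtain ⟨a, e⟩ := (mem_pre.1 hx).2
        rw [bar_conj g.2 (pre_le _ hx), bar_coe, hg, ← e]
        exact ⟨Multiplicative.ofAdd (c * a.toAdd), eq_mul_inv_iff_mul_eq.2 (congrArg _ (hA _).symm)⟩⟩)
    obtain ⟨kL, b, hb⟩ := mem_pre.1 hk
    refine ⟨_, mul_mem (inv_mem kL) g.2, e, ac _ (mul_mem (inv_mem kL) g.2) e ((upT b.toAdd)⁻¹ * A) c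
      (by rw [bar_mul (inv_mem kL) g.2, bar_inv kL, bar_coe, hg, ← hb]; rfl) fun a => ?_⟩
    rw [mul_assoc, hA, ← mul_assoc, ← mul_assoc, mul_left_inj, inv_mul_eq_iff_eq_mul, ← mul_assoc, upT_mul,
      add_comm, ← upT_mul, mul_inv_cancel_right]
  obtain ⟨l, hl⟩ := IsCyclic.exists_monoid_generator (α := Fˣ)
  have hl : ∀ c : F, c ≠ 0 → ∃ n : ℕ, (l : F) ^ n = c := fun c hc =>
    (hl (Units.mk0 c hc)).imp fun n e => by simpa using congrArg Units.val e
  obtain ⟨ρ, r1, -, r2⟩ := tor l l.ne_zero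
  refine cx.result hG hU (R := fun ρ => ∀ a, ρ * ι a * ρ⁻¹ = ι (l * a)) (fun ρ => good_field h2 hι hl)
    (fun ρ c hc r a => by rw [← cc hc (m1 (l * a)), ← r]; group) (h.le r1) r2 (fun f1 W k ρ hE r => ?_) S
  obtain ⟨X, _, _, f, P, a, b, z, p1, p2, p3, p4, p5, p6, p7, p8, p9, p10, p11, p12, p13, p14, p15⟩ :=
    hE.aff hU h2 hι hl r fun g g1 g2 c => by
      by_cases c0 : c = 0
      · exact ⟨0, fun a b _ => by simp [c0, hι.zero]⟩
      obtain ⟨y, y1, y2, y3⟩ := tor c c0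
      have n := cj (le_normalizer g2) y2
      obtain ⟨c', hc⟩ : ∃ c', ∀ a, g * y * g⁻¹ * ι a * (g * y * g⁻¹)⁻¹ = ι (c' * a) := by
        rcases h.nrm g g1 y y1 with e | e
        · exact (act _ e n).imp fun _ e => e.2.1
        · refine (act _ e (mul_mem (c_le_n _ tc) n)).imp fun _ e a => ?_
          rw [← e.2.1, ← cc tc (cj n (m1 a))]
          group
      exact ⟨c', fun a b e => by rw [← hc, ← e, ← y3]; group⟩
  exact hE.elim (Big.index_ne_two_of_simple hG) hU f1 p1 p2 p3 p4 p5 p6 p8 p9 p11 p12 p13 p7 p10 p14 p15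

omit [Finite G] in
theorem exists_LS' {t : G} (ht : orderOf t = 2) {Y : Type*} [Group Y] (hY : center Y = ⊥) {X : Subgroup G}
    (hX : X ≤ C1[t]) (hn : C1[t] ≤ N[X]) (m2 : ∀ x ∈ C1[t], P2 x → x ∈ X) (f : X →* Multiplicative (ZMod 2) × Y)
    (sf : Function.Surjective f) (kf : ∀ x, f x = 1 → Odd (orderOf (x : G))) :
    ∃ (L : Subgroup G) (ψ : L →* Y), LS t L ψ := by
  have tX := m2 t (self_mem_c1 t) (p2_of_sq (sq2 ht))
  have mL : ∀ x, x ∈ pre f (MonoidHom.fst _ _).ker ↔ x ∈ X ∧ (bar f x).1 = 1 := fun x => mem_pre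
  have t1 : (bar f t).1 ≠ 1 := fun c => by
    have : (bar f t).2 ∈ center Y := mem_center_iff.2 fun y => by
      obtain ⟨x, hx⟩ := sf (1, y)
      have := bar_comm (f := f) x.2 tX (mem_c1.1 (hX x.2))
      rw [bar_coe, hx] at this
      exact congrArg Prod.snd this
    have := kf ⟨t, tX⟩ (bar_of_mem (f := f) tX ▸ Prod.ext c (mem_bot.1 (hY ▸ this)))
    rw [ht] at this
    exact absurd this (by decide)
  have sp : ∀ x ∈ X, x ∈ pre f (MonoidHom.fst _ _).ker ∨ t * x ∈ pre f (MonoidHom.fst _ _).ker :=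
    fun x hx => or_iff_not_imp_left.2 fun n => (mL _).2 ⟨mul_mem tX hx, by
      have : ∀ a b : Multiplicative (ZMod 2), a ≠ 1 → b ≠ 1 → a * b = 1 := by decide
      rw [bar_mul tX hx]
      exact this _ _ t1 fun e => n ((mL _).2 ⟨hx, e⟩)⟩
  generalize pre f (MonoidHom.fst _ _).ker = L at mL sp
  have LX : L ≤ X := fun x hx => ((mL _).1 hx).1
  refine ⟨L, (MonoidHom.snd _ _).comp (f.comp (inclusion LX)), sq2 ht,
    fun c => t1 ((mL _).1 c).2, LX.trans hX, fun x hx p => sp x (m2 x hx p), fun y => ?_,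
    fun x hx => ?_, fun g hg x hx => sp _ (cj (hn hg) (LX hx))⟩
  · obtain ⟨x, hx⟩ := sf (1, y)
    exact ⟨⟨x, (mL _).2 ⟨x.2, by rw [bar_coe, hx]⟩⟩, congrArg Prod.snd hx⟩
  · have := ((mL _).1 x.2).2
    rw [bar_of_mem (LX x.2)] at this
    rw [← orderOf_coe]
    exact kf ⟨x, LX x.2⟩ (Prod.ext this hx)

theorem exists_LS {t : G} (ht : orderOf t = 2) {Y : Type*} [Group Y] (hY : center Y = ⊥)
    (e : closure {x : C1[t] ⧸ oddCore C1[t] | ∃ k : ℕ, orderOf x = 2 ^ k} ≃* Multiplicative (ZMod 2) × Y) :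
    ∃ (L : Subgroup G) (ψ : L →* Y), LS t L ψ := by
  generalize hH : closure {x : C1[t] ⧸ oddCore C1[t] | ∃ k : ℕ, orderOf x = 2 ^ k} = H at e
  have nH : H.Normal := ⟨fun x hx g => by
    rw [← hH] at hx ⊢
    induction hx using closure_induction with
    | mem x hx => exact subset_closure (hx.imp fun k e => (MulEquiv.orderOf_eq (MulAut.conj g) x).trans e)
    | one => simp
    | mul x y _ _ h1 h2 => simpa [mul_assoc] using mul_mem h1 h2
    | inv x _ h => simpa [mul_assoc] using inv_mem h⟩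
  obtain ⟨π, sπ, kπ⟩ : ∃ π : C1[t] →* C1[t] ⧸ oddCore C1[t], Function.Surjective π ∧
      ∀ x, π x = 1 → Odd (orderOf x) := ⟨QuotientGroup.mk' _, QuotientGroup.mk'_surjective _, fun x hx =>
    odd_card_oddCore.of_dvd_nat (orderOf_dvd_natCard _ ((QuotientGroup.eq_one_iff _).1 hx))⟩
  refine exists_LS' ht hY (pre_le H) (fun g hg => mem_n fun x hx => ?_) (fun x hx ⟨k, p⟩ => ?_)
    (e.toMonoidHom.comp (MonoidHom.mk' (fun x : pre π H => (⟨bar π x, (mem_pre.1 x.2).2⟩ : H)) fun x y =>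
      Subtype.ext (bar_mul (pre_le _ x.2) (pre_le _ y.2)))) (e.surjective.comp fun y => ?_) fun x hx => ?_
  · obtain ⟨h1, h2⟩ := mem_pre.1 hx
    exact mem_pre.2 ⟨cj (le_normalizer hg) h1, bar_conj (f := π) hg h1 ▸ nH.conj_mem _ h2 _⟩
  · obtain ⟨j, -, e⟩ := (Nat.dvd_prime_pow Nat.prime_two).1 (orderOf_dvd_of_pow_eq_one
      (show bar π x ^ 2 ^ k = 1 by rw [← bar_pow hx, p, bar_one]))
    exact mem_pre.2 ⟨hx, hH ▸ subset_closure ⟨j, e⟩⟩
  · obtain ⟨x, hx⟩ := sπ y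
    exact ⟨⟨x, mem_pre.2 ⟨x.2, by rw [bar_coe, hx]; exact y.2⟩⟩, Subtype.ext ((bar_coe x).trans hx)⟩
  · have : bar π x = 1 := congrArg Subtype.val ((map_eq_one_iff e e.injective).1 hx)
    rw [bar_of_mem (pre_le _ x.2)] at this
    exact (orderOf_coe (⟨x, pre_le _ x.2⟩ : C1[t])) ▸ kπ _ this

theorem main [IsSimpleGroup G] (hG : ¬ IsMulCommutative G) {t : G} (ht : orderOf t = 2) {F : Type*} [Field F]
    [Fintype F] (hF : 3 < Fintype.card F)
    (e : closure {x : C1[t] ⧸ oddCore C1[t] | ∃ k : ℕ, orderOf x = 2 ^ k} ≃* Multiplicative (ZMod 2) × PSL(2, F))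
    (S : Sylow 2 G) : Nat.card (S : Subgroup G) = 8 ∧ ∀ x ∈ (S : Subgroup G), x ^ 2 = 1 := by
  have h4 : 4 ≤ Nat.card F := Nat.card_eq_fintype_card (α := F) ▸ hF
  haveI := Matrix.ProjectiveSpecialLinearGroup.rank_two_simple h4
  obtain ⟨L, ψ, h⟩ := exists_LS ht (pg_center_eq_bot_of_simple (pg_psl2_not_comm h4)) e
  by_cases h2 : (2 : F) = 0
  · exact h.even hG h2 (by omega) S
  · exact (h.odd (dih2_psl h2) (pg_commutator_eq_top_of_simple (pg_psl2_not_comm h4))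
      (pg_two_dvd_card_psl2 (Nat.odd_iff.2 (L2.odd_card_of_two_ne h2)))).result hG S

end Cfsg.Lib.TwoL
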