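import Cfsg.Agent.Lib.TwoL.Elem
import Cfsg.Agent.Lib.Signalizer.SFT.Four

/-!
# The case of odd characteristic
-/

set_option autoImplicit false

namespace Cfsg.Lib.TwoL
open Subgroup Cfsg.Lib Cfsg.Lib.FT Cfsg.Lib.GW Cfsg.Lib.Wal

universe u
variable {G : Type u} [Group G] [Finite G]

structure OddS (t : G) (L : Subgroup G) : Prop where
  tt : t * t = 1
  tL : t ∉ L
  le : L ≤ C1[t]
  two : ∀ x ∈ C1[t], P2 x → x ∈ L ∨ t * x ∈ L
  gen : ∀ P ≤ L, IsPGroup 2 P → ∃ c, DihGen P c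
  four : ∀ a ∈ L, ∀ b ∈ L, Four a b → ∀ x ∈ L, P2 x → x ∈ C[four a b] → x ∈ four a b
  conj : ∀ a ∈ L, ∀ b ∈ L, orderOf a = 2 → orderOf b = 2 → ∃ g ∈ L, g * a * g⁻¹ = b
  rot : ∀ a ∈ L, ∀ b ∈ L, Four a b → ∃ x ∈ L, x * a * x⁻¹ = b ∧ x * b * x⁻¹ = a * b
  ex : ∃ a ∈ L, ∃ b ∈ L, Four a b

theorem cover_of_card {A S : Subgroup G} (hle : A ≤ S) (h : Nat.card S ≤ 2 * Nat.card A) {s : G} (hs : s ∈ S)
    (h1 : s ∉ A) : A.relIndex S = 2 ∧ S ≤ N[A] ∧ ∀ x ∈ S, x ∈ A ∨ s * x ∈ A := by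
  have e := relIndex_mul_card hle
  have r : A.relIndex S = 2 := by
    have h2 : A.relIndex S ≠ 1 := fun e => h1 (relIndex_eq_one.1 e hs)
    have h3 : A.relIndex S ≠ 0 := fun e' => by simp [e', Nat.card_pos.ne] at e
    have := Nat.le_of_mul_le_mul_right (e.le.trans h) Nat.card_pos
    omega
  refine ⟨r, (normal_subgroupOf_iff_le_normalizer hle).1 (normal_of_index_eq_two r), fun x hx =>
    or_iff_not_imp_left.2 fun n => ?_⟩
  exact (mul_mem_iff_of_index_two r (a := ⟨s, hs⟩) (b := ⟨x, hx⟩)).2 (iff_of_false h1 n)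

omit [Finite G] in
theorem Cj.symm {t x : G} (h : Cj t x) : Cj x t := h.elim fun g e => ⟨g⁻¹, by rw [← e]; group⟩

omit [Finite G] in
theorem rot_pow {z e x : G} (hf : Four z e) (h1 : x * z * x⁻¹ = e) (h2 : x * e * x⁻¹ = z * e) (n : ℕ) :
    x ^ 4 ^ n * z * (x ^ 4 ^ n)⁻¹ = e ∧ x ^ 4 ^ n * e * (x ^ 4 ^ n)⁻¹ = z * e := by
  induction n with
  | zero => simpa using ⟨h1, h2⟩
  | succ n ih =>
    have := hf.rot_w ih.1 ih.2
    rw [pow_succ, pow_mul]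
    generalize x ^ 4 ^ n = y at *
    have e4 : ∀ a, y ^ 4 * a * (y ^ 4)⁻¹ = y * (y * (y * (y * a * y⁻¹) * y⁻¹) * y⁻¹) * y⁻¹ := fun a => by
      simp only [pow_succ, pow_zero, one_mul, mul_inv_rev, mul_assoc]
    rw [e4, e4, ih.1, ih.2, this, ih.1, ih.2]
    exact ⟨rfl, rfl⟩

theorem exists_inverted {z e s ρ : G} (hf : Four z e) (hρ : Good (four z e) ρ) (s2 : s * s = 1)
    (s1 : s * z * s⁻¹ = z) (s3 : s * e * s⁻¹ = z * e) :
    ∃ n, Odd (orderOf ((s * ρ * s⁻¹ * ρ⁻¹) ^ n)) ∧ Good (four z e) ((s * ρ * s⁻¹ * ρ⁻¹) ^ n) := by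
  obtain ⟨n, hn⟩ := exists_four_pow (s * ρ * s⁻¹ * ρ⁻¹)
  refine ⟨_, hn, ?_⟩
  have fx : ∀ a ∈ four z e, ρ * a * ρ⁻¹ = a → a = 1 := fun a => hρ.fix fun a ha => by
    by_cases c : z = a
    exacts [⟨e, right_mem_four _ _, hf.v_ne, c ▸ hf.ne⟩, ⟨z, left_mem_four _ _, hf.t_ne, c⟩]
  have aux : ∀ e', Four z e' → four z e' = four z e → s * e' * s⁻¹ = z * e' → ρ * z * ρ⁻¹ = e' →
      Good (four z e') ((s * ρ * s⁻¹ * ρ⁻¹) ^ 4 ^ n) := fun e' hf' q s3 r1 => by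
    rw [← q] at fx hρ
    have r2 : ρ * e' * ρ⁻¹ = z * e' := by
      rcases hf'.conj_mem hρ.norm (right_mem_four _ _) hf'.v_ne with c | c | c
      · refine (hf'.w_ne (fx _ (mul_mem (left_mem_four _ _) (right_mem_four _ _)) ?_)).elim
        calc _ = ρ * z * ρ⁻¹ * (ρ * e' * ρ⁻¹) := by group
          _ = _ := by rw [r1, c, hf'.comm]
      · exact (hf'.v_ne (fx _ (right_mem_four _ _) c)).elim
      · exact c
    have r3 := hf'.rot_w r1 r2
    have s4 : s * (z * e') * s⁻¹ = e' := by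
      calc _ = s * z * s⁻¹ * (s * e' * s⁻¹) := by group
        _ = _ := by rw [s1, s3, hf'.tw]
    have e4 : ∀ a, s * ρ * s⁻¹ * ρ⁻¹ * (ρ * (s * a * s⁻¹) * ρ⁻¹) * (s * ρ * s⁻¹ * ρ⁻¹)⁻¹ =
      s * (ρ * a * ρ⁻¹) * s⁻¹ := fun a => by group
    have a1 := e4 e'
    have a2 := e4 z
    rw [s3, r3, r2, s4] at a1
    rw [s1, r1, s3] at a2
    exact good_four hf' (rot_pow hf' a1 a2 n).1 (rot_pow hf' a1 a2 n).2
  rcases hf.conj_mem hρ.norm (left_mem_four _ _) hf.t_ne with c | c | c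
  · exact (hf.t_ne (fx _ (left_mem_four _ _) c)).elim
  · exact aux e hf rfl s3 c
  · refine hf.four_alt ▸ aux _ hf.alt hf.four_alt ?_ c
    calc _ = s * z * s⁻¹ * (s * e * s⁻¹) := by group
      _ = _ := by rw [s1, s3]

namespace OddS
variable {t : G} {L : Subgroup G} (h : OddS t L)
include h

omit [Finite G] in
theorem t1 : t ≠ 1 := fun e => h.tL (e ▸ one_mem _)

omit [Finite G] in
theorem tt' (x : G) : t * (t * x) = x := by rw [← mul_assoc, h.tt, one_mul]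

omit [Finite G] in
theorem p2t {x : G} (hx : x ∈ C1[t]) (p : P2 x) : P2 (t * x) := (p2_of_sq h.tt).mul p (mem_c1.1 hx).symm

omit [Finite G] in
theorem ctx {a b : G} (ha : a ∈ L) (hb : b ∈ L) (hf : Four a b) : Ctx t (GW.four a b) := by
  have le := four_le_iff.2 ⟨ha, hb⟩
  refine ⟨h.tt, fun _ => hf.mul_self, fun e => h.tL (le e), le.trans h.le, fun x _ => ?_, fun x h1 h2 p =>
    (h.two x h1 p).imp (fun c => h.four a ha b hb hf x c p h2) fun c => h.four a ha b hb hf _ c (h.p2t h1 p)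
      (mul_mem (le_c1_iff.1 (le.trans h.le)) h2)⟩
  by_cases c : a = x
  exacts [⟨b, right_mem_four _ _, hf.v_ne, c ▸ hf.ne⟩, ⟨a, left_mem_four _ _, hf.t_ne, c⟩]

omit [Finite G] in
theorem split {T : Subgroup G} (hT : IsPGroup 2 T) (h1 : T ≤ C1[t]) (h2 : t ∈ T) {x : G} (hx : x ∈ T) :
    x ∈ T ⊓ L ∨ t * x ∈ T ⊓ L :=
  (h.two x (h1 hx) (p2_of_mem hT hx)).imp (fun c => ⟨hx, c⟩) fun c => ⟨mul_mem h2 hx, c⟩

omit [Finite G] in
theorem mem_T {D : Subgroup G} (hD : D ≤ L) {x : G} : x ∈ D ⊔ zpowers t ↔ x ∈ D ∨ t * x ∈ D :=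
  mem_ext (c_le_n _ (le_c1_iff.1 (hD.trans h.le))) (h.tt ▸ one_mem _)

omit [Finite G] in
theorem syl {D : Subgroup G} (hD : IsSylowIn 2 D L) : IsSylowIn 2 (D ⊔ zpowers t) C1[t] := by
  refine ⟨sup_le (hD.le.trans h.le) (zpowers_le.2 (self_mem_c1 t)), pg_ext hD.isPGroup
    (c_le_n _ (le_c1_iff.1 (hD.le.trans h.le))) (p2_of_sq h.tt), fun R h1 h2 h3 => le_antisymm (fun x hx => ?_) h3⟩
  rw [h.mem_T hD.le, ← hD.maximal (R ⊓ L) (h1.to_le inf_le_left) inf_le_right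
    (le_inf (le_sup_left.trans h3) hD.le)]
  exact h.split h1 h2 (h3 (self_mem_ext _ _)) hx

omit [Finite G] in
theorem syl' {T : Subgroup G} (hT : IsSylowIn 2 T C1[t]) : t ∈ T ∧ IsSylowIn 2 (T ⊓ L) L := by
  have tT : t ∈ T := hT.le_of_le_normalizer (p2_of_sq h.tt).pg (zpowers_le.2 (self_mem_c1 t))
    (zpowers_le.2 (c_le_n _ (le_c1_iff.1 hT.le))) (mem_zpowers t)
  refine ⟨tT, inf_le_right, hT.isPGroup.to_le inf_le_left, fun R h1 h2 h3 => le_antisymm (le_inf ?_ h2) h3⟩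
  exact le_sup_left.trans (hT.maximal _ (pg_ext h1 (c_le_n _ (le_c1_iff.1 (h2.trans h.le))) (p2_of_sq h.tt))
    (sup_le (h2.trans h.le) (zpowers_le.2 (self_mem_c1 t))) fun x hx =>
      (h.mem_T h2).2 ((h.split hT.isPGroup hT.le tT hx).imp (fun c => h3 c) fun c => h3 c)).le

omit [Finite G] in
theorem nsq {x : G} (p : P2 x) : ¬ Cj t (x * x) := fun ⟨g, e⟩ => by
  have e1 : g⁻¹ * x * g * (g⁻¹ * x * g) = t := by
    calc _ = g⁻¹ * (x * x) * g := by group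
      _ = _ := by rw [← e]; group
  have p' : P2 (g⁻¹ * x * g) := by simpa using p.conj g⁻¹
  generalize g⁻¹ * x * g = y at *
  have m : y ∈ C1[t] := mem_c1.2 (by rw [← e1]; group)
  rcases h.two y m p' with c | c
  · exact h.tL (e1 ▸ mul_mem c c)
  · have := mul_mem c c
    rw [mul_assoc, ← mul_assoc y, mem_c1.1 m, mul_assoc, h.tt', e1] at this
    exact h.tL this

variable (nf : ∀ a ∈ L, ∀ b ∈ L, Four a b → ¬ IsSylowIn 2 (GW.four a b) L)
include nf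

omit [Finite G] in
theorem ncen {D : Subgroup G} (hD : IsSylowIn 2 D L) {a b : G} (ha : a ∈ L) (hb : b ∈ L) (hf : Four a b) :
    ¬ D ≤ C[GW.four a b] := fun c => nf a ha b hb hf (hD.maximal _ hf.isPGroup (four_le_iff.2 ⟨ha, hb⟩)
  (fun x hx => h.four a ha b hb hf x (hD.le hx) (p2_of_mem hD.isPGroup hx) (c hx)) ▸ hD)

theorem nL {a : G} (ha : a ∈ L) : ¬ Cj t a := fun c => by
  obtain ⟨x, hx, y, hy, hf⟩ := h.ex
  obtain ⟨D, hD, le⟩ := exists_isSylowIn_ge hf.isPGroup (four_le_iff.2 ⟨hx, hy⟩)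
  obtain ⟨r, hr⟩ := h.gen D hD.le hD.isPGroup
  have r2 : r * r ≠ 1 := fun e => h.ncen nf hD hx hy hf fun g hg => mem_centralizer_iff.2 fun d hd =>
    comm_of_isMulCommutative (comm_of_sq fun d hd => by
      by_cases c : d ∈ zpowers r
      · rcases (mem_zpowers_two e).1 c with rfl | rfl
        exacts [one_mul 1, e]
      · exact hr.sq d hd c) (le hd) hg
  obtain ⟨_, ⟨j, rfl⟩, z2⟩ := exists_invol (hD.isPGroup.to_le (zpowers_le.2 (mul_mem hr.mem hr.mem)))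
    fun e => r2 (zpowers_eq_bot.1 e)
  have m := zpow_mem hr.mem j
  have e : (r * r) ^ j = r ^ j * r ^ j := (Commute.refl r).mul_zpow j
  obtain ⟨g, -, e'⟩ := h.conj a ha _ (hD.le (mul_mem m m)) (ord2 (c.elim fun _ e => e ▸ conj_ne_one h.t1) (c.sq h.tt))
    (e ▸ z2)
  exact h.nsq (p2_of_mem hD.isPGroup m) (e' ▸ c.conj g)

variable (hG : ∀ N : Subgroup G, N.index ≠ 2)
include hG

theorem nsyl {T : Subgroup G} (hT : IsSylowIn 2 T C1[t]) : ¬ IsSylowIn 2 T ⊤ := fun c => by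
  obtain ⟨u, hu, e⟩ := thompson hG c (rel_two (W := T ⊓ L) (h.syl' hT).1 (fun e => h.tL e.2)
    fun x => h.split hT.isPGroup hT.le (h.syl' hT).1) h.tt
  exact h.nL nf hu.2 e

theorem tcj {a : G} (ha : a ∈ L) (a2 : a * a = 1) : Cj t (t * a) := by
  by_contra n
  obtain ⟨T, hT⟩ := exists_isSylowIn 2 C1[t]
  have a1 : a ≠ 1 := fun e => n (by simpa [e] using cj_refl t)
  refine h.nsyl nf hG hT (syl_of_fix hT hT.isPGroup le_rfl fun g hg => ⟨1, one_mem _, ?_⟩)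
  have m := cj hg (h.syl' hT).1
  have b := ((h.split hT.isPGroup hT.le (h.syl' hT).1 m).resolve_left fun e => h.nL nf e.2 (cj_self t g)).2
  by_contra c
  obtain ⟨k, hk, e⟩ := h.conj _ b a ha (ord2 (fun e => c (by
    simpa using mem_c1_of_conj (by rw [← h.tt' (g * t * g⁻¹), e, mul_one])))
    (sq_mul (mem_c1.1 (hT.le m)).symm h.tt (sq_conj h.tt g))) (ord2 a1 a2)
  refine n (e ▸ ?_)
  have := (cj_self t g).conj k
  rwa [← h.tt' (g * t * g⁻¹), show k * (t * (t * (g * t * g⁻¹))) * k⁻¹ = k * t * k⁻¹ * (k * (t * (g * t * g⁻¹)) * k⁻¹)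
    by group, conj_eq_of_c1 (h.le hk)] at this

theorem memL {x : G} (hx : x ∈ C1[t]) (x2 : x * x = 1) (n : ¬ Cj t x) : x ∈ L :=
  (h.two x hx (p2_of_sq x2)).resolve_right fun c => n
    (h.tt' x ▸ h.tcj nf hG c (sq_mul (mem_c1.1 hx).symm h.tt x2))

omit hG in
theorem mul_cj {u v : G} (hu : Cj t u) (hv : Cj t v) (c : u * v = v * u) : ¬ Cj t (u * v) := fun e => by
  obtain ⟨g, rfl⟩ := hu
  have hv' : Cj t (g⁻¹ * v * g) := by simpa using hv.conj g⁻¹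
  have := (h.two _ (mem_c1.2 (by
    calc _ = g⁻¹ * (v * (g * t * g⁻¹)) * g := by group
      _ = _ := by rw [← c]; group)) (p2_of_sq (hv'.sq h.tt))).resolve_left fun c => h.nL nf c hv'
  exact h.nL nf this (by simpa [mul_assoc] using e.conj g⁻¹)

theorem mul_ncj {u a : G} (hu : Cj t u) (a2 : a * a = 1) (ha : ¬ Cj t a) (c : u * a = a * u) : Cj t (u * a) := by
  obtain ⟨g, rfl⟩ := hu
  have a2' : g⁻¹ * a * g * (g⁻¹ * a * g) = 1 := by simpa using sq_conj a2 g⁻¹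
  simpa [mul_assoc] using (h.tcj nf hG (h.memL nf hG (mem_c1.2 (by
    calc _ = g⁻¹ * (a * (g * t * g⁻¹)) * g := by group
      _ = _ := by rw [← c]; group)) a2' fun e => ha (by simpa [mul_assoc] using e.conj g)) a2').conj g

variable {S : Subgroup G} (hS : IsSylowIn 2 S ⊤) (hT : IsSylowIn 2 (S ⊓ C1[t]) C1[t])
include hS hT

theorem cen_L {z : G} (z2 : z * z = 1) (hz : S ≤ C1[z]) : ¬ Cj t z ∧ z ∈ L := by
  have n : ¬ Cj t z := fun c => h.nsyl nf hG hT (hS.of_card_ge hT.isPGroup le_top (c.card_le hT hS.isPGroup hz))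
  exact ⟨n, h.memL nf hG (mem_c1_symm (hz (h.syl' hT).1.1)) z2 n⟩

theorem cen_uniq {z z' : G} (z2 : orderOf z = 2) (hz : S ≤ C1[z]) (z2' : orderOf z' = 2) (hz' : S ≤ C1[z'])
    (m : z' ∈ S) : z' = z := by
  by_contra n
  exact h.ncen nf (h.syl' hT).2 (h.cen_L nf hG hS hT (sq2 z2) hz).2 (h.cen_L nf hG hS hT (sq2 z2') hz').2
    ⟨z2, z2', n, mem_c1.1 (hz m)⟩ (centralizer_four z z' ▸ (inf_le_left.trans inf_le_left).trans (le_inf hz hz'))

variable {z : G} (z2 : orderOf z = 2) (hz : S ≤ C1[z])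
include z2 hz

theorem half {y : G} (hy : y ∈ S) (y2 : y * y = 1) (c : Nat.card S ≤ 2 * Nat.card ↥(S ⊓ C1[y])) {s : G}
    (hs : s ∈ S) : s * y * s⁻¹ = y ∨ s * y * s⁻¹ = y * z := by
  refine or_iff_not_imp_left.2 fun n => ?_
  have n' : s ∉ S ⊓ C1[y] := fun e => n (conj_eq_of_c1 e.2)
  obtain ⟨-, c1, c2⟩ := cover_of_card inf_le_left c hs n'
  have a : ∀ x ∈ S ⊓ C1[y], x ∈ C1[s * y * s⁻¹] := fun x hx => mem_c1_of_conj (by
    calc _ = s * (s⁻¹ * x * s * y * (s⁻¹ * x * s)⁻¹) * s⁻¹ := by group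
      _ = _ := by rw [conj_eq_of_c1 (cj' (c1 hs) hx).2])
  have b := mem_c1.1 (a y ⟨hy, self_mem_c1 y⟩)
  have a' : ∀ x ∈ S ⊓ C1[y], x ∈ C1[y * (s * y * s⁻¹)] := fun x hx => Four.c_w ⟨hx.2, a x hx⟩
  have s1 : s ∈ C1[y * (s * y * s⁻¹)] := mem_c1_of_conj (by
    calc _ = s * y * s⁻¹ * (s * s * y * (s * s)⁻¹) := by group
      _ = _ := by rw [conj_eq_of_c1 ((c2 s hs).resolve_left n').2, b])
  rw [← h.cen_uniq nf hG hS hT z2 hz (ord2 (fun e => n (by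
    rw [eq_inv_of_mul_eq_one_right e, inv_of_sq y2])) (sq_mul b y2 (sq_conj y2 s))) (fun x hx => (c2 x hx).elim
      (a' x) fun e => (mul_mem_cancel_left s1).1 (a' _ e)) (mul_mem hy (cj (le_normalizer hs) hy)), ← mul_assoc,
    y2, one_mul]

theorem caseA (zS : z ∈ S) (c : Nat.card S ≤ 2 * Nat.card ↥(S ⊓ C1[t])) : False := by
  obtain ⟨tT, hD⟩ := h.syl' hT
  obtain ⟨x, hx, xT⟩ : ∃ x ∈ S, x ∉ S ⊓ C1[t] := SetLike.not_le_iff_exists.1 fun e =>
    h.nsyl nf hG hT ((inf_eq_left.2 (e.trans inf_le_right)).symm ▸ hS)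
  obtain ⟨-, nT, cov⟩ := cover_of_card inf_le_left c hx xT
  have sp := @split _ _ _ _ h _ hT.isPGroup hT.le tT
  have zD : z ∈ S ⊓ C1[t] ⊓ L := ⟨⟨zS, mem_c1_symm (hz tT.1)⟩, (h.cen_L nf hG hS hT (sq2 z2) hz).2⟩
  have ct : ∀ s ∈ S, t * (s * t * s⁻¹) ∈ S ⊓ C1[t] ⊓ L := fun s hs => by
    rcases h.half nf hG hS hT z2 hz tT.1 h.tt c hs with e | e <;> rw [e]
    exacts [h.tt ▸ one_mem _, (h.tt' z).symm ▸ zD]
  obtain ⟨r, hr⟩ := h.gen _ hD.le hD.isPGroup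
  obtain ⟨s, hs, sr⟩ : ∃ s ∈ S ⊓ C1[t] ⊓ L, s ∉ zpowers r := by
    obtain ⟨a, ha, b, hb, hf⟩ := h.ex
    obtain ⟨g, -, e⟩ := hD.exists_conj_le hf.isPGroup (four_le_iff.2 ⟨ha, hb⟩)
    rw [four_conj, four_le_iff] at e
    exact (DihGen.one_not_mem (hf.conj g)).elim (fun c => ⟨_, e.1, c⟩) fun c => ⟨_, e.2, c⟩
  have nD : S ≤ N[S ⊓ C1[t] ⊓ L] := fun g hg => mem_n fun d hd => by
    have key : ∀ d ∈ S ⊓ C1[t] ⊓ L, d ∉ zpowers r → g * d * g⁻¹ ∈ S ⊓ C1[t] ⊓ L := fun d hd c =>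
      ⟨cj (nT hg) hd.1, h.memL nf hG (cj (nT hg) hd.1).2 (sq_conj (hr.sq d hd c) g) fun e => h.nL nf hd.2 e.of_conj⟩
    by_cases c : d ∈ zpowers r
    · convert mul_mem (inv_mem (key s hs sr)) (key _ (mul_mem hs hd) fun e => sr ((mul_mem_cancel_right c).1 e))
        using 1
      group
    · exact key d hd c
  have tD : t ∉ S ⊓ C1[t] ⊓ L := fun e => h.tL e.2
  have DT : S ⊓ C1[t] ⊓ L ≤ S ⊓ C1[t] := inf_le_left
  have DL := hD.le
  generalize S ⊓ C1[t] ⊓ L = D at *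
  rcases sp ((cov x hx).resolve_left xT) with x2 | x2
  swap
  · obtain ⟨Y, _, _, f, sf, kf⟩ := exists_quot (DT.trans inf_le_left) nD
    have b1 : ∀ y ∈ S, bar f y = 1 ↔ y ∈ D := fun y hy => kf ▸ bar_eq_one_iff hy
    have bt : bar f t * bar f t = 1 := by rw [← bar_mul tT.1 tT.1, h.tt, bar_one]
    have b2 : ∀ y ∈ S, t * y ∈ D → bar f y = bar f t := fun y hy e => by
      have := (b1 _ (mul_mem tT.1 hy)).2 e
      rw [bar_mul tT.1 hy] at this
      rw [eq_inv_of_mul_eq_one_right this, inv_of_sq bt]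
    have b3 : ∀ y ∈ S ⊓ C1[t], bar f y ∈ zpowers (bar f x * bar f x) := fun y hy => (sp hy).elim
      (fun e => (b1 y hy.1).2 e ▸ one_mem _) fun e => by
        rw [b2 y hy.1 e, ← b2 _ (mul_mem hx hx) x2, bar_mul hx hx]; exact mem_zpowers _
    have le : zpowers (bar f x * bar f x) ≤ zpowers (bar f x) :=
      zpowers_le.2 (mul_mem (mem_zpowers _) (mem_zpowers _))
    haveI : IsCyclic Y := ⟨bar f x, fun y => by
      obtain ⟨y, rfl⟩ := sf y
      rw [← bar_coe]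
      exact (cov y y.2).elim (fun e => le (b3 _ e)) fun e =>
        (mul_mem_cancel_left (mem_zpowers _)).1 (bar_mul (f := f) hx y.2 ▸ le (b3 _ e))⟩
    letI : CommGroup Y := IsCyclic.commGroup
    have tr := transfer_eq_pow_of_conj f t (bar f t) fun k g m => by
      rw [← bar_of_mem]
      rcases Nat.even_or_odd k with ⟨j, rfl⟩ | o
      · simp [← two_mul, pow_mul, pow_two, h.tt, bt, bar_one]
      rw [pow_odd_of_sq h.tt o] at m ⊢
      rw [pow_odd_of_sq bt o]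
      have u : Cj t (g⁻¹ * t * g) := by simpa using cj_self t g⁻¹
      generalize g⁻¹ * t * g = u' at *
      refine b2 _ m ((sp ((cov _ m).elim id fun e => (tD ((b1 _ tT.1).1 ?_)).elim)).resolve_left
        fun e => h.nL nf (DL e) u)
      have e1 : bar f (x * u') * bar f (x * u') = 1 := (sp e).elim (fun e' => by rw [(b1 _ e.1).2 e', mul_one])
        fun e' => by rw [b2 _ e.1 e', bt]
      rwa [bar_mul hx m, mul_mul_mul_comm, ← bar_mul m m, u.sq h.tt, bar_one, mul_one, ← bar_mul hx hx,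
        b2 _ (mul_mem hx hx) x2] at e1
    obtain ⟨S', rfl⟩ := hS.exists_sylow_top
    rw [pow_odd_of_sq bt (sylow_two_index_odd S')] at tr
    exact tD ((b1 _ tT.1).1 (tr ▸ pResidual_le_ker (hS.isPGroup.of_surjective f sf) _
      (pResidual_two_eq_top_iff.2 hG ▸ mem_top t)))
  have ext : ∀ x ∈ S, x ∉ S ⊓ C1[t] → x * x ∈ D → ∃ y ∈ S, Cj t y ∧ x * y ∈ D ∧
      Nat.card S ≤ 2 * Nat.card ↥(S ⊓ C1[y]) := fun x hx xT x2 => by
    obtain ⟨-, -, cov⟩ := cover_of_card inf_le_left c hx xT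
    have me := fun y => @mem_ext _ _ D x y (nD hx) x2
    have le : D ⊔ zpowers x ≤ S := sup_le (DT.trans inf_le_left) (zpowers_le.2 hx)
    obtain ⟨S', rfl⟩ := hS.exists_sylow_top
    obtain ⟨g, hg, e⟩ := thompson_transfer_extremal S' le (rel_two tT.1 (fun e => ((me t).1 e).elim tD
      fun e => xT ((mul_mem_cancel_right tT).1 (DT e))) fun s hs => by
        rcases cov s hs with a | a <;> rcases sp a with b | b
        · exact .inl (mem_sup_left b)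
        · exact .inr (mem_sup_left b)
        · exact .inl ((me s).2 (.inr b))
        · refine .inr ((me _).2 (.inr ?_))
          convert mul_mem (inv_mem (ct x hx)) b using 1
          rw [mul_inv_rev, inv_of_sq (sq_conj h.tt x)]
          group) (t := t) (by rw [pow_two, h.tt]) (pResidual_two_eq_top_iff.2 hG ▸ mem_top t)
    exact ⟨_, le hg, cj_self t g, ((me _).1 hg).resolve_left fun e => h.nL nf (DL e) (cj_self t g),
      c.trans (Nat.mul_le_mul_left 2 ((cj_self t g).symm.card_le e hT.isPGroup hT.le))⟩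
  obtain ⟨u, hu, u1, u2, u3⟩ := ext x hx xT x2
  obtain ⟨v, hv, v1, v2, v3⟩ := ext (t * x) (mul_mem tT.1 hx) (fun e => xT ((mul_mem_cancel_left tT).1 e))
    (by convert mul_mem (ct x hx) x2 using 1; group)
  have no : ∀ a b, Cj t a → Cj t b → a * b = b * a → t * (a * b) ∉ D := fun a b ha hb c e =>
    h.mul_cj nf ha hb c (h.tt' (a * b) ▸ h.tcj nf hG (DL e) (sq_mul (by
      rw [← mul_right_inj t, ← mul_assoc t (a * b), mem_c1.1 (DT e).2]) h.tt (sq_mul c (ha.sq h.tt) (hb.sq h.tt))))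
  have mD : ∀ a ∈ D, t * (v * a * u) ∈ D := fun a ha => by
    convert mul_mem (mul_mem (mul_mem (ct _ (inv_mem hx)) (cj' (nD hx) (mul_mem v2 ha))) (inv_mem x2)) u2 using 1
    calc _ = t * x⁻¹ * (t * t) * x * v * a * u := by rw [h.tt]; group
      _ = _ := by group
  have hu' := @half _ _ _ _ _ h nf hG _ hS hT _ z2 hz _ hu (u1.sq h.tt) u3
  have hv' := @half _ _ _ _ _ h nf hG _ hS hT _ z2 hz _ hv (v1.sq h.tt) v3
  have nc : v * u ≠ u * v := fun e => no v u v1 u1 e (by simpa using mD 1 (one_mem _))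
  have c1 := (hu' hv).resolve_left fun e => nc (mul_inv_eq_iff_eq_mul.1 e)
  have c2 := (hv' hu).resolve_left fun e => nc (mul_inv_eq_iff_eq_mul.1 e).symm
  have cz : ∀ g ∈ S, ∀ y, g * (y * z) * g⁻¹ = g * y * g⁻¹ * z := fun g hg y => by
    calc _ = g * y * g⁻¹ * (g * z * g⁻¹) := by group
      _ = _ := by rw [conj_eq_of_c1 (hz hg)]
  have sS := (DT hs).1
  have s2 := hr.sq s hs sr
  have ns := h.nL nf (DL hs)
  have cs : s * (v * u) * s⁻¹ = v * u := by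
    rw [show s * (v * u) * s⁻¹ = s * v * s⁻¹ * (s * u * s⁻¹) by group]
    rcases hu' sS with a | a <;> rcases hv' sS with b | b
    · rw [a, b]
    · have a' := mul_inv_eq_iff_eq_mul.1 a
      refine (no v (s * u) v1 (a' ▸ h.mul_ncj nf hG u1 s2 ns a'.symm) (mul_inv_eq_iff_eq_mul.1 ?_).symm
        (mul_assoc v s u ▸ mD s hs)).elim
      calc _ = s * (u * v * u⁻¹) * s⁻¹ := by group
        _ = _ := by rw [c2, cz s sS, b, mul_assoc, sq2 z2, mul_one]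
    · refine (no (v * s) u (h.mul_ncj nf hG v1 s2 ns (mul_inv_eq_iff_eq_mul.1 b).symm) u1
        (mul_inv_eq_iff_eq_mul.1 ?_) (mD s hs)).elim
      calc _ = v * (s * u * s⁻¹) * v⁻¹ := by group
        _ = _ := by rw [a, cz v hv, c1, mul_assoc, sq2 z2, mul_one]
    · rw [a, b, mul_assoc, ← mul_assoc z, ← mem_c1.1 (hz hu), mul_assoc u, sq2 z2, mul_one]
  have m : t * (v * u) ∈ D := by simpa using mD 1 (one_mem _)
  have := hr.sq_of_comm hs sr m (mul_inv_eq_iff_eq_mul.1 (by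
    calc _ = s * t * s⁻¹ * (s * (v * u) * s⁻¹) := by group
      _ = _ := by rw [cs, conj_eq_of_c1 (DT hs).2]))
  refine nc (h9_comm_of_sq (v1.sq h.tt) (u1.sq h.tt) ?_)
  rw [← h.tt' (v * u)]
  exact sq_mul (mem_c1.1 (DT m).2).symm h.tt this

theorem caseB {e : G} (hf : Four z e) (zL : z ∈ L) (eL : e ∈ L) (hE : NFour S (GW.four z e)) : False := by
  have cx := h.ctx zL eL hf
  obtain ⟨ρ, ρL, r1, r2⟩ := h.rot z zL e eL hf
  rcases chain cx (R := Good (GW.four z e)) (fun _ => id) (fun ρ c hc r => r.congr fun a ha => by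
    rw [← cc hc (cj r.norm ha)]; group) (h.le ρL) (good_four hf r1 r2) with ⟨M, hM⟩ | ⟨W, k, ρ, c, -⟩
  swap
  · exact c.not_four hf
  have nL := @nL _ _ _ _ _ h nf
  have sM : IsSylowIn 2 M C[GW.four z e] := by
    by_contra n
    obtain ⟨g, g0, g1, g2, g3⟩ := exists_mem_normalizer_not_mem_of_isPGroup hM.p2 hM.cen n
    obtain ⟨m, hm, c⟩ := hM.fix g g1 (c_le_n _ g0)
    exact g2 ((mul_mem_cancel_left (inv_mem hm)).1 (sup_le hM.le (zpowers_le.2 hM.tM) (cx.mem_U.2 (cx.cen _ c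
      (mul_mem (inv_mem (hM.cen hm)) g0) (p2_of_mem (IsPGroup.to_sup_of_normal_left' hM.p2 g3 (zpowers_le.2 g1))
        (mul_mem (mem_sup_left (inv_mem hm)) (self_mem_ext _ _)))))))
  obtain ⟨s, sL, s2, sN, s1, s3⟩ : ∃ s ∈ L, s * s = 1 ∧ s ∈ N[M] ∧ s ∈ C1[z] ∧ s * e * s⁻¹ = z * e := by
    obtain ⟨s, hs, sc⟩ := SetLike.not_le_iff_exists.1 (h.ncen nf (h.syl' hT).2 zL eL hf)
    have sn := hE.norm hs.1.1
    obtain ⟨k, hk, c⟩ := sM.exists_mul_mem_normalizer (normalizer_le_normalizer_centralizer _ sn)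
    obtain ⟨m, hm, c'⟩ := hM.fix _ c (mul_mem (inv_mem (c_le_n _ hk)) sn)
    have cz : C[GW.four z e] ≤ C1[z] := centralizer_four z e ▸ inf_le_left
    have a1 := mul_mem (le_normalizer (inv_mem hm)) c
    have a2 := mul_mem (inv_mem (c_le_n _ (hM.cen hm))) (mul_mem (inv_mem (c_le_n _ hk)) sn)
    have a3 := mul_mem (inv_mem (cz (hM.cen hm))) (mul_mem (inv_mem (cz hk)) (hz hs.1.1))
    have a4 : m⁻¹ * (k⁻¹ * s) ∉ C[GW.four z e] := fun c => sc
      ((mul_mem_cancel_left (inv_mem hk)).1 ((mul_mem_cancel_left (inv_mem (hM.cen hm))).1 c))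
    generalize m⁻¹ * (k⁻¹ * s) = g at *
    have sw : ∀ g ∈ N[GW.four z e], g ∈ C1[z] → g ∉ C[GW.four z e] →
        g * e * g⁻¹ = z * e ∧ g * g ∈ C[GW.four z e] := fun g g1 g2 g3 => by
      have := (hf.conj_v g1 g2).resolve_left fun c => g3 (centralizer_four z e ▸ ⟨g2, mem_c1_of_conj c⟩)
      refine ⟨this, centralizer_four z e ▸ ⟨mul_mem g2 g2, mem_c1_of_conj ?_⟩⟩
      calc _ = g * (g * e * g⁻¹) * g⁻¹ := by group
        _ = g * (z * e) * g⁻¹ := by rw [this]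
        _ = g * z * g⁻¹ * (g * e * g⁻¹) := by group
        _ = _ := by rw [this, conj_eq_of_c1 g2, hf.tw]
    obtain ⟨_, ⟨n, rfl⟩, p⟩ := exists_odd_pow g
    have a5 : g ^ (2 * n + 1) ∉ C[GW.four z e] := fun c => a4 (by
      rwa [pow_succ, pow_mul, mul_mem_cancel_left (pow_mem (pow_two g ▸ (sw g a2 a3 a4).2) n)] at c)
    obtain ⟨γ, γL, b0, b1, b2, b3, b4⟩ : ∃ γ ∈ L, P2 γ ∧ γ ∈ N[M] ∧ γ ∈ N[GW.four z e] ∧ γ ∈ C1[z] ∧
        γ ∉ C[GW.four z e] := (h.two _ (pow_mem c' _) p).elim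
      (fun c => ⟨_, c, p, pow_mem a1 _, pow_mem a2 _, pow_mem a3 _, a5⟩) fun c => ⟨_, c, h.p2t (pow_mem c' _) p,
        mul_mem (le_normalizer hM.tM) (pow_mem a1 _), mul_mem (c_le_n _ cx.tc) (pow_mem a2 _),
        mul_mem (cz cx.tc) (pow_mem a3 _), fun c => a5 ((mul_mem_cancel_left cx.tc).1 c)⟩
    obtain ⟨d1, d2⟩ := sw γ b2 b3 b4
    have d3 : γ * (γ * γ) * γ⁻¹ = γ * γ := by group
    rcases hf.mem_four.1 (h.four z zL e eL hf _ (mul_mem γL γL) (b0.mul b0 rfl) d2) with c | c | c | c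
    · exact ⟨γ, γL, c, b1, b3, d1⟩
    · refine ⟨γ * e, mul_mem γL eL, ?_, mul_mem b1 (le_normalizer (hM.le (right_mem_four _ _))),
        mul_mem b3 hf.v_mem, by rw [← d1]; group⟩
      calc _ = γ * e * γ⁻¹ * (γ * γ) * e := by group
        _ = _ := by rw [d1, c, mul_assoc, mul_assoc, hf.vw, hf.tt]
    · exact (hf.w_ne_v (by rwa [c, d1] at d3)).elim
    · refine (hf.w_ne_v ?_).elim
      rwa [c, show γ * (z * e) * γ⁻¹ = γ * z * γ⁻¹ * (γ * e * γ⁻¹) by group, d1, conj_eq_of_c1 b3, hf.tw,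
        eq_comm] at d3
  obtain ⟨ρ, r1, r3, r4⟩ := hM.ex
  obtain ⟨n, ro, r4⟩ := exists_inverted hf r4 s2 (conj_eq_of_c1 s1) s3
  have st := h.le sL
  have ri : s * (s * ρ * s⁻¹ * ρ⁻¹) ^ n * s⁻¹ = ((s * ρ * s⁻¹ * ρ⁻¹) ^ n)⁻¹ := by
    rw [← conj_pow, ← inv_pow]
    congr 1
    calc _ = s * s * (ρ * s⁻¹ * ρ⁻¹ * s⁻¹) := by group
      _ = _ := by rw [s2]; simp [mul_assoc, inv_of_sq s2]
  have r1 := pow_mem (mul_mem (cj (le_normalizer sN) r1) (inv_mem r1)) n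
  have r3 := pow_mem (mul_mem (cj (le_normalizer st) r3) (inv_mem r3)) n
  generalize (s * ρ * s⁻¹ * ρ⁻¹) ^ n = ρ at *
  obtain ⟨P, hP⟩ := hM.half ρ r1 r3 r4
  have sA : s ∈ N[GW.four z e] := Four.mem_normalizer ((conj_eq_of_c1 s1).symm ▸ left_mem_four _ _)
    (s3 ▸ mul_mem (left_mem_four _ _) (right_mem_four _ _))
  have sP := hP.norm s sN sA (.inr ri)
  have sM' : s ∉ M := fun c => hf.w_ne_v (s3 ▸ cc (hM.cen c) (right_mem_four _ _))
  have m1 := fun x => @mem_ext _ _ M s x sN (s2 ▸ one_mem _)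
  have m2 := fun x => @mem_ext _ _ P s x sP (s2 ▸ one_mem _)
  have syl := hS.of_card_ge (pg_ext hM.p2 sN (p2_of_sq s2)) le_top (by
    rw [card_two le_sup_left (self_mem_ext M s) sM' fun x => (m1 x).1]
    exact (hE.card_le hS.isPGroup le_rfl).trans (Nat.mul_le_mul_left 2 (Nat.le_of_dvd Nat.card_pos
      (sM.card_dvd (hS.isPGroup.to_le inf_le_left) inf_le_right))))
  obtain ⟨u, hu, c⟩ := thompson hG syl (rel_two (W := P ⊔ zpowers s) (mem_sup_left hM.tM)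
    (fun c => ((m2 t).1 c).elim hP.tP fun c => sM' ((mul_mem_cancel_right hM.tM).1 (hP.le' c))) fun x hx => by
      rcases (m1 x).1 hx with a | a <;> rcases hP.cover _ a with b | b
      · exact .inl (mem_sup_left b)
      · exact .inr (mem_sup_left b)
      · exact .inl ((m2 x).2 (.inr b))
      · exact .inr ((m2 _).2 (.inr (by rwa [← mul_assoc, mem_c1.1 st, mul_assoc])))) h.tt
  have u2 := c.sq h.tt
  have AL := four_le_iff.2 ⟨zL, eL⟩
  rcases (m2 u).1 hu with a | a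
  · obtain ⟨x, hx, x1, x2, x3⟩ := hP.big u a u2 fun e => nL (AL e) c
    obtain ⟨g, rfl⟩ := c
    have k : ∀ y ∈ GW.four z e, g⁻¹ * y * g⁻¹⁻¹ ∈ L := fun y hy => h.memL nf hG (mem_c1.2 (by
      calc _ = g⁻¹ * (y * (g * t * g⁻¹)) * g := by group
        _ = _ := by rw [mem_centralizer_iff.1 (hM.cen (hP.le' a)) y hy]; group)) (sq_conj (hf.mul_self hy) _)
      fun c => nL (AL hy) c.of_conj
    have := (h.ctx (k _ (left_mem_four _ _)) (k _ (right_mem_four _ _)) (hf.conj g⁻¹)).cen (g⁻¹ * x * g⁻¹⁻¹)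
      (mem_c1.2 (by
        calc _ = g⁻¹ * (x * (g * t * g⁻¹)) * g := by group
          _ = _ := by rw [x1]; group))
      (by rw [← four_conj, centralizer_map_conj]; exact conj_mem_conj (hM.cen (hP.le' hx)) _)
      ((p2_of_mem hM.p2 (hP.le' hx)).conj _)
    simp only [← four_conj, mem_map_conj] at this
    exact this.elim (fun e => x2 (by simpa [mul_assoc] using e)) fun e => x3 (by simpa [mul_assoc] using e)
  have rP := hP.norm ρ r1 r4.norm (.inl (by group))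
  let f : P → P := fun v => ⟨v * (ρ * (v : G)⁻¹ * ρ⁻¹), mul_mem v.2 (cj rP (inv_mem v.2))⟩
  have inj : Function.Injective f := fun a b e => by
    have e' : a * (ρ * (a : G)⁻¹ * ρ⁻¹) = b * (ρ * (b : G)⁻¹ * ρ⁻¹) := congrArg Subtype.val e
    have := hP.fpf _ (mul_mem (inv_mem b.2) a.2) (by
      calc _ = ρ * (b : G)⁻¹ * ρ⁻¹ * (a * (ρ * (a : G)⁻¹ * ρ⁻¹))⁻¹ * a := by group
        _ = _ := by rw [e']; group)
    exact Subtype.ext (inv_mul_eq_one.1 this).symm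
  obtain ⟨v, hv⟩ := Finite.injective_iff_surjective.1 inj ⟨_, cj' sP a⟩
  have hv : v * (ρ * (v : G)⁻¹ * ρ⁻¹) = s⁻¹ * (s * u) * s := congrArg Subtype.val hv
  have sr : s * ρ * (s * ρ) = 1 := by
    calc _ = s * ρ * s⁻¹ * (s * s) * ρ := by group
      _ = _ := by rw [ri, s2]; group
  obtain ⟨i, e1⟩ := h9_conj_of_odd u2 sr (by
    rw [show u * (s * ρ) = v * ρ * (v : G)⁻¹ by
      calc _ = s⁻¹ * (s * u) * s * ρ := by group
        _ = _ := by rw [← hv]; group]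
    exact (MulEquiv.orderOf_eq (MulAut.conj (v : G)) ρ).symm ▸ ro)
  obtain ⟨j, e2⟩ := h9_conj_of_odd s2 sr (by rwa [← mul_assoc, s2, one_mul])
  exact nL sL (Cj.of_conj (e2 ▸ e1 ▸ c.conj _))

omit hS hT z2 hz in
theorem dihedral : False := by
  obtain ⟨a, ha, b, hb, hf⟩ := h.ex
  have cx := h.ctx ha hb hf
  have res := pResidual_two_eq_top_iff.2 hG
  obtain ⟨T, hT, le⟩ := exists_isSylowIn_ge (pgroup_of_sq fun _ => cx.sq_U)
    (sup_le cx.le (zpowers_le.2 (self_mem_c1 t)))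
  obtain ⟨S, hS, le'⟩ := exists_isSylowIn_ge hT.isPGroup le_top
  have hT' : IsSylowIn 2 (S ⊓ C1[t]) C1[t] :=
    hT.maximal _ (hS.isPGroup.to_le inf_le_left) inf_le_right (le_inf le' hT.le) ▸ hT
  have c4 : ∀ {a b : G}, Four a b → 4 ≤ Nat.card (GW.four a b) := fun {a b} hf => by
    rw [show GW.four a b = zpowers a ⊔ zpowers b from rfl, card_two le_sup_left (self_mem_ext _ b)
      (fun e => ((mem_zpowers_two hf.tt).1 e).elim hf.v_ne hf.ne) fun x hx =>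
        (mem_ext (c_le_n _ (centralizer_zpowers a ▸ hf.v_mem)) (hf.vv ▸ one_mem _)).1 hx, Nat.card_zpowers, hf.ht]
  obtain ⟨E, hE⟩ := exists_nfour hS.isPGroup (le.trans le')
    ⟨comm_of_sq fun _ => cx.sq_U, fun x hx => by rw [pow_two, cx.sq_U hx]⟩ (by
      have := c4 hf
      rw [cx.card_U]; omega)
  have fr : ∀ {S E : Subgroup G}, IsPGroup 2 S → NFour S E → ∃ z e, Four z e ∧ E = GW.four z e ∧ S ≤ C1[z] :=
    fun hS hE => by
      obtain ⟨z, hz, z2, c⟩ := hE.exists_central hS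
      obtain ⟨e, he, hf⟩ := exists_four (fun v hv => by rw [← pow_two, hE.ea.2 v hv]) hE.card.ge hz (ne1 z2)
      exact ⟨z, e, hf, eq_of_four hf hz he hE.card.le, le_c1_iff.2 c⟩
  obtain ⟨x, hx, xc⟩ : ∃ x ∈ S, x ∉ S ⊓ C[E] := SetLike.not_le_iff_exists.1 fun c => by
    obtain ⟨z, e, hf, rfl, hz⟩ := fr hS.isPGroup hE
    exact hf.ne (h.cen_uniq nf hG hS hT' hf.ht hz hf.hv
      ((c.trans inf_le_right).trans (centralizer_four z e ▸ inf_le_right)) (hE.le (right_mem_four _ _)))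
  obtain ⟨S', rfl⟩ := hS.exists_sylow_top
  obtain ⟨g, g1, g2⟩ := thompson_transfer_extremal S' inf_le_left
    (cover_of_card inf_le_left (hE.card_le hS.isPGroup le_rfl) hx xc).1 (t := t) (by rw [pow_two, h.tt])
    (res ▸ mem_top t)
  have k1 := hS.conj_of_mem_normalizer (g := g⁻¹) (by rw [normalizer_eq_top]; trivial)
  have k2 := g2.map_conj g⁻¹
  rw [map_conj_inf, ← c1_conj, show g⁻¹ * (g * t * g⁻¹) * g⁻¹⁻¹ = t by group] at k2
  have k3 := hE.conj g⁻¹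
  have k4 : t ∈ C[g⁻¹ •ᶜ E] := by
    rw [centralizer_map_conj, mem_map_conj]
    simpa using g1.2
  obtain ⟨z, e, hf, e', hz⟩ := fr k1.isPGroup k3
  rw [e'] at k3 k4
  have A : ∀ e', Four z e' → GW.four z e' = GW.four z e → ¬ Cj t e' := fun e' hf' q c =>
    h.caseA nf hG k1 k2 hf.ht hz (k3.le (left_mem_four _ _)) ((k3.card_le k1.isPGroup le_rfl).trans
      (Nat.mul_le_mul_left 2 (c.card_le k2 (k1.isPGroup.to_le inf_le_left)
        (inf_le_right.trans (q ▸ centralizer_four z e' ▸ inf_le_right)))))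
  exact h.caseB nf hG k1 k2 hf.ht hz hf (h.cen_L nf hG k1 k2 hf.tt hz).2
    (h.memL nf hG (le_c1_iff.2 k4 (right_mem_four _ _)) hf.vv (A e hf rfl)) k3

omit nf hG hS hT z2 hz in
theorem result [IsSimpleGroup G] (hG : ¬ IsMulCommutative G) (S : Sylow 2 G) :
    Nat.card (S : Subgroup G) = 8 ∧ ∀ x ∈ (S : Subgroup G), x ^ 2 = 1 := by
  by_cases nf : ∀ a ∈ L, ∀ b ∈ L, Four a b → ¬ IsSylowIn 2 (GW.four a b) L
  · exact (h.dihedral nf (Big.index_ne_two_of_simple hG)).elim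
  push Not at nf
  obtain ⟨a, ha, b, hb, hf, hD⟩ := nf
  obtain ⟨ρ, ρL, r1, r2⟩ := h.rot a ha b hb hf
  exact (h.ctx ha hb hf).result hG (h.syl hD) (R := Good (GW.four a b)) (fun _ => id)
    (fun ρ c hc r => r.congr fun a ha => by rw [← cc hc (cj r.norm ha)]; group) (h.le ρL) (good_four hf r1 r2)
    (fun _ _ _ _ c _ => c.not_four hf) S

end OddS

end Cfsg.Lib.TwoL
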